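import Groth.Agent.L00.RDerLES
import Mathlib.Algebra.Category.Grp.Adjunctions
import Mathlib.Algebra.Category.Grp.Abelian
import Mathlib.Algebra.Category.Grp.Limits
import Mathlib.Algebra.Category.Grp.EpiMono
import Mathlib.Algebra.Homology.ShortComplex.Ab
import Mathlib.CategoryTheory.Abelian.FunctorCategory
import Mathlib.CategoryTheory.Functor.OfSequence

/-!
`R^i lim` of towers of abelian groups vanishes for `i ≥ 2`, and for `i ≥ 1` when the transition maps
are surjective.
-/

set_option autoImplicit false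

universe u

open CategoryTheory CategoryTheory.Limits Opposite

namespace Groth.L04.LimTower

noncomputable section

abbrev Tower := ℕᵒᵖ ⥤ AddCommGrpCat.{u}

abbrev succHom (n : ℕ) : op (n + 1) ⟶ op n := (homOfLE (Nat.le_succ n)).op

def SurjTower (A : Tower.{u}) : Prop := ∀ n : ℕ, Function.Surjective (A.map (succHom n))

/-- The free tower on one generator in level `m`. -/
def P (m : ℕ) : Tower.{u} := coyoneda.obj (op (op m)) ⋙ uliftFunctor.{u, 0} ⋙ AddCommGrpCat.free

def stepP (m : ℕ) : P.{u} m ⟶ P.{u} (m + 1) :=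
  Functor.whiskerRight (coyoneda.map (succHom m).op) (uliftFunctor.{u, 0} ⋙ AddCommGrpCat.free)

instance mono_stepP (m : ℕ) : Mono (stepP.{u} m) := by
  have : ∀ k, Mono ((stepP.{u} m).app k) := fun k => by
    have : Mono (uliftFunctor.{u, 0}.map ((coyoneda.map (succHom m).op).app k)) := by
      rw [mono_iff_injective]
      intro a b _
      exact ULift.ext _ _ (Subsingleton.elim (α := op m ⟶ k) _ _)
    exact Functor.map_mono AddCommGrpCat.free.{u} _
  exact NatTrans.mono_of_mono_app _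

def ofElem (I : Tower.{u}) (m : ℕ) (x : I.obj (op m)) : P.{u} m ⟶ I where
  app k := AddCommGrpCat.ofHom
    (FreeAbelianGroup.lift fun h : ULift.{u} (op m ⟶ k) => I.map h.down x)
  naturality k l f := by
    refine AddCommGrpCat.hom_ext (FreeAbelianGroup.lift_ext _ _ ?_)
    intro h
    obtain ⟨h⟩ := h
    change FreeAbelianGroup.lift (fun h : ULift.{u} (op m ⟶ l) => I.map h.down x)
        (FreeAbelianGroup.map _ (FreeAbelianGroup.of (ULift.up h))) =
      I.map f (FreeAbelianGroup.lift (fun h : ULift.{u} (op m ⟶ k) => I.map h.down x)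
        (FreeAbelianGroup.of (ULift.up h)))
    rw [FreeAbelianGroup.map_of_apply, FreeAbelianGroup.lift_apply_of,
      FreeAbelianGroup.lift_apply_of]
    exact congrArg (fun g => g x) (I.map_comp h f)

theorem surjTower_of_injective (I : Tower.{u}) [Injective I] : SurjTower I := by
  intro m x
  let ψ := Injective.factorThru (ofElem I m x) (stepP m)
  refine ⟨ψ.app (op (m + 1)) (FreeAbelianGroup.of (ULift.up (𝟙 (op (m + 1))))), ?_⟩
  have h1 := congrArg (fun g => g.hom (FreeAbelianGroup.of (ULift.up (𝟙 (op (m + 1))))))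
    (ψ.naturality (succHom m))
  have h2 := congrArg (fun g => (g.app (op m)).hom (FreeAbelianGroup.of (ULift.up (𝟙 (op m)))))
    (Injective.comp_factorThru (ofElem I m x) (stepP m))
  have h3 : ((P.{u} (m + 1)).map (succHom m)).hom
      (FreeAbelianGroup.of (ULift.up (𝟙 (op (m + 1))))) =
      ((stepP.{u} m).app (op m)).hom (FreeAbelianGroup.of (ULift.up (𝟙 (op m)))) := by
    change FreeAbelianGroup.map _ (FreeAbelianGroup.of _) = FreeAbelianGroup.map _ (FreeAbelianGroup.of _)
    rw [FreeAbelianGroup.map_of_apply, FreeAbelianGroup.map_of_apply]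
    congr 1
  have h4 : ((ofElem I m x).app (op m)).hom (FreeAbelianGroup.of (ULift.up (𝟙 (op m)))) = x := by
    change FreeAbelianGroup.lift _ (FreeAbelianGroup.of _) = x
    rw [FreeAbelianGroup.lift_apply_of]
    exact congrArg (fun g => g x) (I.map_id (op m))
  refine Eq.trans ?_ (h2.trans h4)
  refine h1.symm.trans ?_
  exact congrArg (fun z => (ψ.app (op m)).hom z) h3

theorem surjective_app {S : ShortComplex Tower.{u}} (hS : S.ShortExact) (k : ℕᵒᵖ) :
    Function.Surjective (S.g.app k) := by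
  have := hS.epi_g
  have : Epi (S.g.app k) := ((evaluation ℕᵒᵖ AddCommGrpCat.{u}).obj k).map_epi S.g
  exact (AddCommGrpCat.epi_iff_surjective _).1 inferInstance

theorem exists_app {S : ShortComplex Tower.{u}} (hS : S.ShortExact) (k : ℕᵒᵖ) (x : S.X₂.obj k)
    (hx : S.g.app k x = 0) : ∃ a, S.f.app k a = x :=
  ((ShortComplex.ab_exact_iff _).1 (hS.exact.map ((evaluation ℕᵒᵖ AddCommGrpCat.{u}).obj k))) x hx

theorem surjTower_X₃ {S : ShortComplex Tower.{u}} (hS : S.ShortExact) (h : SurjTower S.X₂) :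
    SurjTower S.X₃ := by
  intro n c
  obtain ⟨b, rfl⟩ := surjective_app hS _ c
  obtain ⟨b', rfl⟩ := h n b
  exact ⟨S.g.app _ b', (congrArg (fun g => g b') (S.g.naturality (succHom n))).symm⟩

theorem epi_lim_map {S : ShortComplex Tower.{u}} (hS : S.ShortExact) (h : SurjTower S.X₁) :
    Epi ((lim : Tower.{u} ⥤ AddCommGrpCat.{u}).map S.g) := by
  refine (AddCommGrpCat.epi_iff_surjective _).2 fun c => ?_
  let cn : ∀ n : ℕ, S.X₃.obj (op n) := fun n => limit.π S.X₃ (op n) c
  have hc : ∀ n, S.X₃.map (succHom n) (cn (n + 1)) = cn n := fun n =>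
    congrArg (fun g => g c) (limit.w S.X₃ (succHom n))
  have hstep : ∀ (n : ℕ) (b : {b : S.X₂.obj (op n) // S.g.app _ b = cn n}),
      ∃ b' : {b : S.X₂.obj (op (n + 1)) // S.g.app _ b = cn (n + 1)},
        S.X₂.map (succHom n) b'.1 = b.1 := by
    rintro n ⟨b, hb⟩
    obtain ⟨j, hj⟩ := surjective_app hS _ (cn (n + 1))
    have hg : S.g.app (op n) (S.X₂.map (succHom n) j - b) = 0 := by
      rw [map_sub, hb]
      have := congrArg (fun g => g j) (S.g.naturality (succHom n))
      rw [show S.g.app (op n) (S.X₂.map (succHom n) j) = S.X₃.map (succHom n) (S.g.app _ j) from this,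
        hj, hc, sub_self]
    obtain ⟨a, ha⟩ := exists_app hS _ _ hg
    obtain ⟨a', rfl⟩ := h n a
    refine ⟨⟨j - S.f.app _ a', ?_⟩, ?_⟩
    · rw [map_sub, hj]
      have := congrArg (fun g => g a') (congrArg (fun g => g.app (op (n + 1))) S.zero)
      rw [show S.g.app (op (n + 1)) (S.f.app (op (n + 1)) a') = 0 from this, sub_zero]
    · change S.X₂.map (succHom n) (j - S.f.app _ a') = b
      have := congrArg (fun g => g a') (S.f.naturality (succHom n))
      rw [map_sub, ← show S.f.app (op n) (S.X₁.map (succHom n) a') =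
        S.X₂.map (succHom n) (S.f.app _ a') from this, ha, sub_sub_cancel]
  choose next hnext using hstep
  let b0 : {b : S.X₂.obj (op 0) // S.g.app _ b = cn 0} :=
    ⟨(surjective_app hS _ (cn 0)).choose, (surjective_app hS _ (cn 0)).choose_spec⟩
  let b : ∀ n : ℕ, {b : S.X₂.obj (op n) // S.g.app _ b = cn n} := fun n =>
    Nat.rec (motive := fun n => {b : S.X₂.obj (op n) // S.g.app _ b = cn n}) b0 next n
  let κ : Cone S.X₂ :=
    { pt := AddCommGrpCat.of (ULift.{u} ℤ)
      π := NatTrans.ofOpSequence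
        (fun n => AddCommGrpCat.ofHom
          (((zmultiplesHom (S.X₂.obj (op n))) (b n).1).comp AddEquiv.ulift.toAddMonoidHom))
        (fun n => by
          refine AddCommGrpCat.hom_ext (AddMonoidHom.ext fun z => ?_)
          change (zmultiplesHom _ (b n).1) z.down =
            S.X₂.map (succHom n) ((zmultiplesHom _ (b (n + 1)).1) z.down)
          simp only [zmultiplesHom_apply, map_zsmul]
          rw [show S.X₂.map (succHom n) (b (n + 1)).1 = (b n).1 from hnext n (b n)]) }
  refine ⟨limit.lift S.X₂ κ ⟨1⟩, ?_⟩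
  refine Concrete.limit_ext _ _ _ fun k => ?_
  obtain ⟨n⟩ := k
  change limit.π S.X₃ (op n) (limMap S.g (limit.lift S.X₂ κ ⟨1⟩)) = cn n
  have h1 := congrArg (fun g => g (limit.lift S.X₂ κ ⟨1⟩)) (limMap_π S.g (op n))
  refine h1.trans ?_
  change S.g.app (op n) (limit.π S.X₂ (op n) (limit.lift S.X₂ κ ⟨1⟩)) = cn n
  rw [show limit.π S.X₂ (op n) (limit.lift S.X₂ κ ⟨1⟩) = κ.π.app (op n) ⟨1⟩ from
    congrArg (fun g => g (ULift.up (1 : ℤ))) (limit.lift_π κ (op n))]
  change S.g.app (op n) ((zmultiplesHom _ (b n).1) (1 : ℤ)) = cn n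
  rw [zmultiplesHom_apply, one_zsmul, (b n).2]

variable [EnoughInjectives (ℕᵒᵖ ⥤ AddCommGrpCat.{u})]
  [(lim : (ℕᵒᵖ ⥤ AddCommGrpCat.{u}) ⥤ AddCommGrpCat.{u}).Additive]

abbrev Lm : Tower.{u} ⥤ AddCommGrpCat.{u} := lim

omit [(lim : (ℕᵒᵖ ⥤ AddCommGrpCat.{u}) ⥤ AddCommGrpCat.{u}).Additive] in
theorem exists_ses (A : Tower.{u}) :
    ∃ S : ShortComplex Tower.{u}, S.ShortExact ∧ S.X₁ = A ∧ Injective S.X₂ :=
  let p := (EnoughInjectives.presentation A).some
  ⟨ShortComplex.mk p.f (cokernel.π p.f) (cokernel.condition p.f),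
    { exact := ShortComplex.exact_cokernel p.f }, rfl, p.injective⟩

theorem isZero_rightDerived_of_surjTower (i : ℕ) :
    ∀ A : Tower.{u}, SurjTower A → IsZero ((Lm.{u}.rightDerived (i + 1)).obj A) := by
  letI := HasDerivedCategory.standard Tower.{u}
  induction i with
  | zero =>
    intro A hA
    obtain ⟨S, hS, rfl, hI⟩ := exists_ses A
    have := epi_lim_map hS hA
    have : Epi ((Lm.{u}.rightDerived 0).map S.g) := by
      have h := (Lm.{u}.rightDerivedZeroIsoSelf).hom.naturality S.g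
      rw [show (Lm.{u}.rightDerived 0).map S.g = Lm.{u}.rightDerivedZeroIsoSelf.hom.app S.X₂ ≫ Lm.{u}.map S.g ≫
        Lm.{u}.rightDerivedZeroIsoSelf.inv.app S.X₃ by rw [← reassoc_of% h]; simp]
      infer_instance
    exact Groth.L00.RDerLES.isZero_X₁ Lm.{u} hS 0 (Lm.{u}.isZero_rightDerived_obj_injective_succ 0 S.X₂)
  | succ i ih =>
    intro A hA
    obtain ⟨S, hS, rfl, hI⟩ := exists_ses A
    have hz := ih S.X₃ (surjTower_X₃ hS (surjTower_of_injective S.X₂))
    have : Epi ((Lm.{u}.rightDerived (i + 1)).map S.g) := ⟨fun _ _ _ => hz.eq_of_src _ _⟩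
    exact Groth.L00.RDerLES.isZero_X₁ Lm.{u} hS (i + 1)
      (Lm.{u}.isZero_rightDerived_obj_injective_succ (i + 1) S.X₂)

theorem isZero_rightDerived_add_two (A : Tower.{u}) (i : ℕ) :
    IsZero ((Lm.{u}.rightDerived (i + 2)).obj A) := by
  letI := HasDerivedCategory.standard Tower.{u}
  obtain ⟨S, hS, rfl, hI⟩ := exists_ses A
  have hz := isZero_rightDerived_of_surjTower i S.X₃ (surjTower_X₃ hS (surjTower_of_injective S.X₂))
  have : Epi ((Lm.{u}.rightDerived (i + 1)).map S.g) := ⟨fun _ _ _ => hz.eq_of_src _ _⟩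
  exact Groth.L00.RDerLES.isZero_X₁ Lm.{u} hS (i + 1)
    (Lm.{u}.isZero_rightDerived_obj_injective_succ (i + 1) S.X₂)

end

end Groth.L04.LimTower
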